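import Groth.Prelude.Def_Hens2
import Groth.Agent.ProEtLib2.IndEtaleHens
import Groth.Agent.S12237
import Groth.Agent.S1467
import Groth.Agent.S1974

/-!
# Specialization arrows between strict localizations
-/

set_option autoImplicit false
set_option linter.unusedSectionVars false
set_option linter.style.haveILetI false
set_option backward.isDefEq.respectTransparency false

universe u

open CategoryTheory AlgebraicGeometry IsLocalRing

noncomputable section

namespace Groth.Agent.SpecArrowLib

variable {X : Scheme.{u}} {x x' : X} {R : Type u} [CommRing R] [IsLocalRing R]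
  [Algebra (X.presheaf.stalk x) R] [IsLocalHom (algebraMap (X.presheaf.stalk x) R)]
  [Hensel.IsStrictHenselization (X.presheaf.stalk x) R]
  {R' : Type u} [CommRing R'] [IsLocalRing R'] [Algebra (X.presheaf.stalk x') R']
  [IsLocalHom (algebraMap (X.presheaf.stalk x') R')] [Hensel.IsStrictHenselization (X.presheaf.stalk x') R']

variable (R') in
/-- The map of the stalk at a specialization into the strict henselization. -/
def base (sp : x' ⤳ x) : X.presheaf.stalk x →+* R' :=
  (algebraMap (X.presheaf.stalk x') R').comp (X.presheaf.stalkSpecializes sp).hom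

theorem specMap_base (sp : x' ⤳ x) :
    Spec.map (CommRingCat.ofHom (base R' sp)) ≫ X.fromSpecStalk x = Hens2.specOf X x' R' := by
  rw [base, CommRingCat.ofHom_comp, Spec.map_comp, Category.assoc]
  show _ ≫ Spec.map (X.presheaf.stalkSpecializes sp) ≫ _ = _
  rw [Scheme.SpecMap_stalkSpecializes_fromSpecStalk]

theorem comp_specOf_iff (sp : x' ⤳ x) (χ : R →+* R') :
    Spec.map (CommRingCat.ofHom χ) ≫ Hens2.specOf X x R = Hens2.specOf X x' R' ↔
      χ.comp (algebraMap (X.presheaf.stalk x) R) = base R' sp := by
  rw [← specMap_base sp, ← Category.assoc, cancel_mono, ← Spec.map_comp, Spec.map_inj, ← CommRingCat.ofHom_comp]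
  exact ⟨fun h => congrArg CommRingCat.Hom.hom h, fun h => congrArg CommRingCat.ofHom h⟩

theorem comp_geomPt_iff (sp : x' ⤳ x) (u : R →+* ResidueField R') :
    Spec.map (CommRingCat.ofHom u) ≫ Hens2.specOf X x R = Hens2.geomPt X x' R' ↔
      u.comp (algebraMap (X.presheaf.stalk x) R) = (residue R').comp (base R' sp) := by
  rw [Hens2.geomPt, ← specMap_base sp, ← Category.assoc, ← Category.assoc, cancel_mono, ← Spec.map_comp,
    ← Spec.map_comp, Spec.map_inj, ← CommRingCat.ofHom_comp, ← CommRingCat.ofHom_comp]
  exact ⟨fun h => congrArg CommRingCat.Hom.hom h, fun h => congrArg CommRingCat.ofHom h⟩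

/-- A point of the strict localization lifts uniquely to a specialization arrow. -/
theorem existsUnique_arrow (sp : x' ⤳ x) (u : R →+* ResidueField R')
    (hu : u.comp (algebraMap (X.presheaf.stalk x) R) = (residue R').comp (base R' sp)) :
    ∃! χ : R →+* R', χ.comp (algebraMap (X.presheaf.stalk x) R) = base R' sp ∧ (residue R').comp χ = u := by
  haveI := Hensel.IsStrictHenselization.henselian (R := X.presheaf.stalk x') (S := R')
  letI : Algebra (X.presheaf.stalk x) R' := (base R' sp).toAlgebra
  letI : Algebra (X.presheaf.stalk x) (ResidueField R') := ((residue R').comp (base R' sp)).toAlgebra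
  let q : R' →ₐ[X.presheaf.stalk x] ResidueField R' := ⟨residue R', fun _ => rfl⟩
  let u' : R →ₐ[X.presheaf.stalk x] ResidueField R' := ⟨u, fun a => RingHom.congr_fun hu a⟩
  obtain ⟨g, hg, huniq⟩ := ProEtLib2.existsUnique_lift (S12237.result (X.presheaf.stalk x) R) u' q
    residue_surjective ker_residue
  refine ⟨g.toRingHom, ⟨RingHom.ext fun a => g.commutes a, RingHom.ext fun a => AlgHom.congr_fun hg a⟩, ?_⟩
  rintro χ ⟨h₁, h₂⟩
  exact congrArg AlgHom.toRingHom (huniq ⟨χ, fun a => RingHom.congr_fun h₁ a⟩ (AlgHom.ext fun a => RingHom.congr_fun h₂ a))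

theorem specializes_of_eq {Y : Scheme.{u}} [Nonempty Y] (g : Y ⟶ Spec (CommRingCat.of R)) (y : Y)
    (hy : (g ≫ Hens2.specOf X x R) y = x') : x' ⤳ x := by
  have h : x' ∈ Set.range (X.fromSpecStalk x) := ⟨(g ≫ Spec.map (CommRingCat.ofHom (algebraMap (X.presheaf.stalk x) R))) y,
    (Scheme.Hom.comp_apply _ _ _).symm.trans (by rw [Category.assoc]; exact hy)⟩
  rw [Scheme.range_fromSpecStalk] at h
  exact h

variable (R') in
theorem geomPt_apply (p : Spec (CommRingCat.of (ResidueField R'))) : Hens2.geomPt X x' R' p = x' := by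
  have h : (Spec.map (CommRingCat.ofHom (residue R')) ≫
      Spec.map (CommRingCat.ofHom (algebraMap (X.presheaf.stalk x') R'))) p = closedPoint (X.presheaf.stalk x') := by
    rw [← Spec.map_comp, ← CommRingCat.ofHom_comp]
    refine PrimeSpectrum.ext ?_
    show (p : PrimeSpectrum (ResidueField R')).asIdeal.comap
      ((residue R').comp (algebraMap (X.presheaf.stalk x') R')) = maximalIdeal (X.presheaf.stalk x')
    rw [Ideal.eq_bot_of_prime (p : PrimeSpectrum (ResidueField R')).asIdeal, ← RingHom.ker_eq_comap_bot,
      ← RingHom.comap_ker, ker_residue]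
    exact ((local_hom_TFAE (algebraMap (X.presheaf.stalk x') R')).out 0 4).1 ‹_›
  show (Spec.map (CommRingCat.ofHom (residue R')) ≫ _ ≫ X.fromSpecStalk x') p = x'
  rw [← Category.assoc]
  exact (Scheme.Hom.comp_apply _ _ _).trans ((congrArg (X.fromSpecStalk x') h).trans Scheme.fromSpecStalk_closedPoint)

/-- A specialization gives a geometric point of the strict localization. -/
theorem exists_point (sp : x' ⤳ x) :
    ∃ u : R →+* ResidueField R', u.comp (algebraMap (X.presheaf.stalk x) R) = (residue R').comp (base R' sp) := by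
  let A := X.presheaf.stalk x
  let v : A →+* ResidueField R' := (residue R').comp (base R' sp)
  let p : Ideal A := RingHom.ker v
  haveI : p.IsPrime := RingHom.ker_isPrime v
  haveI := S1467.weaklyEtale_sh A R
  haveI : Module.FaithfullyFlat A R := Module.FaithfullyFlat.of_flat_of_isLocalHom
  obtain ⟨Q, hQ⟩ := PrimeSpectrum.comap_surjective_of_faithfullyFlat (A := A) (B := R) ⟨p, inferInstance⟩
  haveI : Q.asIdeal.LiesOver p := ⟨(congrArg PrimeSpectrum.asIdeal hQ).symm⟩
  haveI : IsSepClosed (ResidueField R') :=
    (Hensel.IsStrictHenselization.isSepClosure (R := X.presheaf.stalk x') (S := R')).sep_closed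
  letI := Localization.AtPrime.algebraOfLiesOver p Q.asIdeal
  haveI : Algebra.IsSeparable p.ResidueField Q.asIdeal.ResidueField := S1974.result A R p Q.asIdeal
  letI : Algebra p.ResidueField (ResidueField R') :=
    (Ideal.ResidueField.lift p v (le_refl _) (by
      rintro a ha
      rw [Submonoid.mem_comap, IsUnit.mem_submonoid_iff, isUnit_iff_ne_zero]
      exact ha)).toAlgebra
  let τ : Q.asIdeal.ResidueField →ₐ[p.ResidueField] ResidueField R' := IsSepClosed.lift
  refine ⟨τ.toRingHom.comp (algebraMap R Q.asIdeal.ResidueField), RingHom.ext fun a => ?_⟩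
  show τ (algebraMap R Q.asIdeal.ResidueField (algebraMap A R a)) = v a
  rw [← IsScalarTower.algebraMap_apply A R, IsScalarTower.algebraMap_apply A p.ResidueField, AlgHom.commutes]
  exact Ideal.ResidueField.lift_algebraMap _ _ _ _ _

end Groth.Agent.SpecArrowLib
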